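import Groth.Agent.Lib.BlowUp.Universal
import Groth.Prelude.Def_HTop3

/-!
# Almost blow-up squares
-/

set_option autoImplicit false

universe u

open CategoryTheory CategoryTheory.Limits AlgebraicGeometry Scheme Opposite TopologicalSpace

namespace GrothLib.ABU25

variable {X X' T Y Z E : Scheme.{u}}

theorem inter_awayFrom (𝓘 : X.IdealSheafData) (U : X.affineOpens) (f : Γ(X, U.1))
    (hf : 𝓘.ideal U = Ideal.span {f}) : U.1 ⊓ _root_.HTop.awayFrom 𝓘 = X.basicOpen f := by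
  ext x
  have h := Set.ext_iff.1 (𝓘.coe_support_inter U) x
  rw [hf, Scheme.zeroLocus_span] at h
  simp only [Set.mem_inter_iff, SetLike.mem_coe, Scheme.mem_zeroLocus_iff, Set.mem_singleton_iff,
    forall_eq] at h
  change x ∈ U.1 ∧ x ∉ (𝓘.support : Set X) ↔ x ∈ X.basicOpen f
  exact ⟨fun ⟨hxU, hx⟩ => by_contra fun hxf => hx (h.2 ⟨hxf, hxU⟩).1,
    fun hxf => ⟨X.basicOpen_le f hxf, fun hx => (h.1 ⟨hx, X.basicOpen_le f hxf⟩).1 hxf⟩⟩

theorem app_ι_eq_zero_iff (O : X.Opens) (V : X.Opens) (s : Γ(X, V)) :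
    O.ι.app V s = 0 ↔ X.presheaf.map (homOfLE (inf_le_left : V ⊓ O ≤ V)).op s = 0 := by
  have e : O.ι ''ᵁ (O.ι ⁻¹ᵁ V) = V ⊓ O := by
    rw [Scheme.Hom.image_preimage_eq_opensRange_inf, Scheme.Opens.opensRange_ι, inf_comm]
  have h : X.presheaf.map (homOfLE (inf_le_left : V ⊓ O ≤ V)).op =
      O.ι.app V ≫ X.presheaf.map (eqToHom e.symm).op := by
    rw [Scheme.Opens.ι_app]
    exact (congrArg X.presheaf.map (Subsingleton.elim _ _)).trans (X.presheaf.map_comp _ _)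
  rw [h, CommRingCat.comp_apply]
  exact (map_eq_zero_iff _ (ConcreteCategory.bijective_of_isIso (X.presheaf.map (eqToHom e.symm).op)).1).symm

theorem eq_zero_of_effCartier {J : T.IdealSheafData} (hJ : _root_.BlowUp.IsEffCartierIdeal J) {V : T.Opens}
    (s : Γ(T, V)) (hs : (_root_.HTop.awayFrom J).ι.app V s = 0) : s = 0 := by
  rw [app_ι_eq_zero_iff] at hs
  have hloc : ∀ x : V, ∃ W : T.affineOpens, x.1 ∈ W.1 ∧ W.1 ≤ V ∧ GrothLib.BlowUp.CartierOn J W := fun x =>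
    GrothLib.BlowUp.exists_cartierOn_le hJ x.2
  choose W hxW hWV hW using hloc
  refine TopCat.Sheaf.eq_of_locally_eq' T.sheaf (fun x => (W x).1) V (fun x => homOfLE (hWV x))
    (fun x hx => TopologicalSpace.Opens.mem_iSup.2 ⟨⟨x, hx⟩, hxW ⟨x, hx⟩⟩) _ _ fun x => ?_
  obtain ⟨f, hf, he⟩ := hW x
  have hle : T.basicOpen f ≤ V ⊓ _root_.HTop.awayFrom J := by
    rw [← inter_awayFrom J (W x) f he]
    exact inf_le_inf_right _ (hWV x)
  have h0 := congrArg (T.presheaf.map (homOfLE hle).op) hs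
  rw [← CommRingCat.comp_apply, ← Functor.map_comp, map_zero] at h0
  have := (W x).2.isLocalization_basicOpen f
  have h1 : algebraMap Γ(T, (W x).1) Γ(T, T.basicOpen f) (T.presheaf.map (homOfLE (hWV x)).op s) = 0 := by
    change T.presheaf.map (homOfLE (T.basicOpen_le f)).op (T.presheaf.map (homOfLE (hWV x)).op s) = 0
    rw [← CommRingCat.comp_apply, ← Functor.map_comp]
    exact h0
  obtain ⟨⟨_, n, rfl⟩, hn⟩ := (IsLocalization.map_eq_zero_iff (Submonoid.powers f) _ _).1 h1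
  change T.presheaf.map (homOfLE (hWV x)).op s = T.presheaf.map (homOfLE (hWV x)).op 0
  rw [map_zero]
  exact mul_left_mem_nonZeroDivisors_eq_zero_iff (pow_mem hf n) |>.1 hn

theorem supportedOn_le_ker (𝓘 : X'.IdealSheafData) (g : T ⟶ X')
    (hg : _root_.BlowUp.IsEffCartierIdeal (𝓘.comap g)) : _root_.HTop.supportedOn 𝓘 ≤ g.ker := by
  let O := _root_.HTop.awayFrom 𝓘
  have hO : g ⁻¹ᵁ O = _root_.HTop.awayFrom (𝓘.comap g) := by
    ext x
    change g x ∉ (𝓘.support : Set X') ↔ x ∉ ((𝓘.comap g).support : Set T)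
    rw [IdealSheafData.support_comap]
    rfl
  have h1 : O.ι.ker ≤ ((g ∣_ O) ≫ O.ι).ker := Scheme.Hom.le_ker_comp _ _
  rw [morphismRestrict_ι, hO] at h1
  refine h1.trans (IdealSheafData.ofIdeals_mono fun U x hx => RingHom.mem_ker.2 ?_)
  rw [RingHom.mem_ker, Scheme.Hom.comp_app] at hx
  exact eq_zero_of_effCartier hg _ hx

theorem isAffineHom_awayFrom (𝓘 : X.IdealSheafData) (h : _root_.HTop.IsLocPrincipal 𝓘) :
    IsAffineHom (_root_.HTop.awayFrom 𝓘).ι := by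
  choose U hxU f hf using h
  refine isAffineHom_of_forall_exists_isAffineOpen _ (fun x => ⟨U x, hxU x, (U x).2, ?_⟩)
  have e : (_root_.HTop.awayFrom 𝓘).ι ''ᵁ ((_root_.HTop.awayFrom 𝓘).ι ⁻¹ᵁ (U x).1) = X.basicOpen (f x) := by
    rw [Scheme.Hom.image_preimage_eq_opensRange_inf, Scheme.Opens.opensRange_ι, inf_comm, inter_awayFrom _ _ _ (hf x)]
  rw [← (_root_.HTop.awayFrom 𝓘).ι.isAffineOpen_iff_of_isOpenImmersion, e]
  exact (U x).2.basicOpen _

theorem isEffCartier_comap_supportedOn (𝓘 : X.IdealSheafData) (h : _root_.HTop.IsLocPrincipal 𝓘) :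
    _root_.BlowUp.IsEffCartierIdeal (𝓘.comap (_root_.HTop.supportedOn 𝓘).subschemeι) := by
  let S := _root_.HTop.supportedOn 𝓘
  have := isAffineHom_awayFrom 𝓘 h
  intro y
  obtain ⟨U, hyU, f, hf⟩ := h (S.subschemeι y)
  let V : S.subscheme.affineOpens := ⟨S.subschemeι ⁻¹ᵁ U.1, U.2.preimage S.subschemeι⟩
  have hker : ∀ c : Γ(X, U.1), S.subschemeι.app U.1 c = 0 ↔
      X.presheaf.map (homOfLE (inf_le_left : U.1 ⊓ _root_.HTop.awayFrom 𝓘 ≤ U.1)).op c = 0 := fun c => by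
    rw [← app_ι_eq_zero_iff, ← RingHom.mem_ker, ← Scheme.Hom.ker_apply, ← RingHom.mem_ker (f := (_ : _ →+* _)),
      ← Scheme.Hom.ker_apply, IdealSheafData.ker_subschemeι]
    rfl
  have := U.2.isLocalization_basicOpen f
  have hres : ∀ c : Γ(X, U.1), X.presheaf.map (homOfLE (inf_le_left : U.1 ⊓ _root_.HTop.awayFrom 𝓘 ≤ U.1)).op c = 0 ↔
      ∃ n : ℕ, f ^ n * c = 0 := fun c => by
    have key : ∀ (W : X.Opens) (e : W = X.basicOpen f) (hW : W ≤ U.1),
        X.presheaf.map (homOfLE hW).op c = 0 ↔ algebraMap Γ(X, U.1) Γ(X, X.basicOpen f) c = 0 := by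
      rintro W rfl hW; exact Iff.rfl
    rw [key _ (inter_awayFrom 𝓘 U f hf) _, IsLocalization.map_eq_zero_iff (Submonoid.powers f)]
    exact ⟨fun ⟨⟨_, n, rfl⟩, hn⟩ => ⟨n, hn⟩, fun ⟨n, hn⟩ => ⟨⟨_, n, rfl⟩, hn⟩⟩
  refine ⟨V, hyU, S.subschemeι.app U.1 f, mem_nonZeroDivisors_iff_right.2 fun z hz => ?_, ?_⟩
  · obtain ⟨c, rfl⟩ := Scheme.Hom.app_surjective S.subschemeι U.1 U.2 z
    rw [← map_mul, hker, hres] at hz
    obtain ⟨n, hn⟩ := hz
    exact (hker c).2 ((hres c).2 ⟨n + 1, by rw [pow_succ, mul_assoc, mul_comm f]; exact hn⟩)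
  · rw [GrothLib.BlowUp.ideal_comap_eq_map 𝓘 S.subschemeι U V le_rfl, hf, Ideal.map_span, Set.image_singleton,
      Scheme.Hom.app_eq_appLE]

/-- The universal property seen on the whole of an almost blow-up. -/
def IsUniv (b : X' ⟶ X) (𝓙 : X.IdealSheafData) : Prop :=
  ∀ (T : Scheme.{u}) (g : T ⟶ X), _root_.BlowUp.IsEffCartierIdeal (𝓙.comap g) → ∃! k : T ⟶ X', k ≫ b = g

theorem exists_factor (b : X' ⟶ X) (𝓙 : X.IdealSheafData) (k : T ⟶ X')
    (hk : _root_.BlowUp.IsEffCartierIdeal (𝓙.comap (k ≫ b))) :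
    ∃ l : T ⟶ (_root_.HTop.supportedOn (𝓙.comap b)).subscheme,
      l ≫ (_root_.HTop.supportedOn (𝓙.comap b)).subschemeι = k := by
  rw [IdealSheafData.comap_comp] at hk
  exact ⟨IsClosedImmersion.lift _ k (by rw [IdealSheafData.ker_subschemeι]; exact supportedOn_le_ker _ k hk),
    IsClosedImmersion.lift_fac _ _ _⟩

theorem isBlowUp_iff_isUniv (b : X' ⟶ X) (𝓙 : X.IdealSheafData) (hp : _root_.HTop.IsLocPrincipal (𝓙.comap b)) :
    _root_.BlowUp.IsBlowUp ((_root_.HTop.supportedOn (𝓙.comap b)).subschemeι ≫ b) 𝓙 ↔ IsUniv b 𝓙 := by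
  constructor
  · intro h T g hg
    obtain ⟨l, hl, huniq⟩ := h.2 T g hg
    refine ⟨l ≫ _, (Category.assoc _ _ _).trans hl, fun k hk => ?_⟩
    obtain ⟨l', hl'⟩ := exists_factor b 𝓙 k (hk ▸ hg)
    rw [← hl', huniq l' ((Category.assoc _ _ _).symm.trans ((congrArg (· ≫ b) hl').trans hk))]
  · intro h
    refine ⟨by rw [IdealSheafData.comap_comp]; exact isEffCartier_comap_supportedOn _ hp, fun T g hg => ?_⟩
    obtain ⟨k, hk, huniq⟩ := h T g hg
    obtain ⟨l, hl⟩ := exists_factor b 𝓙 k (hk ▸ hg)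
    refine ⟨l, (Category.assoc _ _ _).symm.trans ((congrArg (· ≫ b) hl).trans hk), fun l' hl' => ?_⟩
    rw [← cancel_mono (_root_.HTop.supportedOn (𝓙.comap b)).subschemeι, hl]
    exact huniq _ ((Category.assoc _ _ _).trans hl')

theorem isUniv_of_square {e : E ⟶ X'} {π : E ⟶ Z} {b : X' ⟶ X} {i : Z ⟶ X}
    (h : _root_.HTop.IsAlmostBlowUpSquare e π b i) : IsUniv b i.ker :=
  (isBlowUp_iff_isUniv b i.ker h.locPrincipal).1 h.isBlowUp

theorem isLocPrincipal_comap (𝓘 : X.IdealSheafData) (g : Y ⟶ X) (h : _root_.HTop.IsLocPrincipal 𝓘) :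
    _root_.HTop.IsLocPrincipal (𝓘.comap g) := fun y => by
  obtain ⟨U, hxU, f, hf⟩ := h (g y)
  obtain ⟨V, hyV, hV⟩ := GrothLib.BlowUp.exists_affine_mem_le (W := g ⁻¹ᵁ U.1) (x := y) hxU
  exact ⟨V, hyV, g.appLE U.1 V.1 hV f, by
    rw [GrothLib.BlowUp.ideal_comap_eq_map 𝓘 g U V hV, hf, Ideal.map_span, Set.image_singleton]⟩

/-- Over the complement of the centre an almost blow-up is an isomorphism. -/
theorem isIso_off_center {e : E ⟶ X'} {π : E ⟶ Z} {b : X' ⟶ X} {i : Z ⟶ X}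
    (h : _root_.HTop.IsAlmostBlowUpSquare e π b i) : IsIso (b ∣_ i.ker.support.compl) := by
  set U : X.Opens := i.ker.support.compl
  have hu := isUniv_of_square h
  have hUc := GrothLib.BlowUp.isEffCartierIdeal_comap_ι_compl_support i.ker
  obtain ⟨s, hs, -⟩ := hu U.toScheme U.ι hUc
  have hrange : Set.range s ⊆ Set.range (b ⁻¹ᵁ U).ι := by
    rintro _ ⟨y, rfl⟩
    rw [Scheme.Opens.range_ι]
    show b (s y) ∈ U
    rw [← Scheme.Hom.comp_apply, hs]
    exact y.2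
  let t : U.toScheme ⟶ (b ⁻¹ᵁ U).toScheme := IsOpenImmersion.lift (b ⁻¹ᵁ U).ι s hrange
  have ht : t ≫ (b ⁻¹ᵁ U).ι = s := IsOpenImmersion.lift_fac _ _ _
  refine ⟨t, ?_, ?_⟩
  · rw [← cancel_mono (b ⁻¹ᵁ U).ι, Category.assoc, ht, Category.id_comp]
    have hc : _root_.BlowUp.IsEffCartierIdeal (i.ker.comap ((b ⁻¹ᵁ U).ι ≫ b)) := by
      have h0 : (i.ker.comap ((b ⁻¹ᵁ U).ι ≫ b)).support = ⊥ := by
        rw [IdealSheafData.support_comap]
        ext1
        ext x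
        simp only [TopologicalSpace.Closeds.coe_preimage, Set.mem_preimage,
          TopologicalSpace.Closeds.coe_bot, Set.mem_empty_iff_false, iff_false]
        exact x.2
      rw [IdealSheafData.support_eq_bot_iff] at h0
      rw [h0]
      exact GrothLib.BlowUp.isEffCartierIdeal_top
    exact (hu _ _ hc).unique (by rw [Category.assoc, hs, morphismRestrict_ι]) rfl
  · rw [← cancel_mono U.ι, Category.assoc, morphismRestrict_ι, reassoc_of% ht, hs, Category.id_comp]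

end GrothLib.ABU25
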