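import Groth.Agent.Lib.ABU25.Sheaf
import Groth.Agent.Lib.HTop.PhBind
import Groth.Agent.Lib.Nagata6.Proper

/-!
# ph sheaves and blow-up squares
-/

set_option autoImplicit false

universe w w' u

open CategoryTheory CategoryTheory.Limits AlgebraicGeometry Opposite TopologicalSpace

namespace GrothLib.ABU25

open _root_.HTop GrothLib.HTop

variable {S : Scheme.{u}}

theorem isPhCover_openCover {T : Scheme.{u}} (𝒰 : Scheme.OpenCover.{w} T) :
    IsPhCover 𝒰.toPreZeroHypercover := by
  refine ⟨fun i => inferInstanceAs (LocallyOfFiniteType (𝒰.f i)), fun U => ?_⟩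
  have : IsAffine _ := U.2
  refine exists_standardPh (U : T.Opens).ι _ (𝟙 _) fun z => ?_
  obtain ⟨i, y, hy⟩ := 𝒰.exists_eq ((U : T.Opens).ι z)
  obtain ⟨W, hW, hzW, hWi⟩ := exists_isAffineOpen_mem_and_subset (X := ((U : T.Opens) : Scheme.{u})) (x := z)
    (U := (U : T.Opens).ι ⁻¹ᵁ (𝒰.f i).opensRange) ⟨y, hy⟩
  refine ⟨W, W.ι, hW, inferInstance, ⟨⟨z, hzW⟩, rfl⟩, i, IsOpenImmersion.lift (𝒰.f i) (W.ι ≫ (U : T.Opens).ι) ?_, ?_⟩
  · rintro _ ⟨x, rfl⟩
    exact hWi x.2
  · rw [Category.id_comp]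
    exact IsOpenImmersion.lift_fac _ _ _

theorem isPhCover_pairFam {A B X : Scheme.{u}} (a : A ⟶ X) (b : B ⟶ X) [IsProper a] [IsProper b]
    (hsurj : ∀ x : X, x ∈ Set.range a ∨ x ∈ Set.range b) : IsPhCover (pairFam a b) := by
  let d := coprod.desc a b
  have : IsProper d := isProper_coprodDesc a b
  have : Surjective d := ⟨fun p => by
    rcases hsurj p with ⟨q, hq⟩ | ⟨q, hq⟩
    · exact ⟨(coprod.inl : A ⟶ A ⨿ B) q, by rw [← Scheme.Hom.comp_apply, coprod.inl_desc, hq]⟩
    · exact ⟨(coprod.inr : B ⟶ A ⨿ B) q, by rw [← Scheme.Hom.comp_apply, coprod.inr_desc, hq]⟩⟩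
  refine ⟨fun j => by cases j; exacts [inferInstanceAs (LocallyOfFiniteType a), inferInstanceAs (LocallyOfFiniteType b)], fun U => ?_⟩
  obtain ⟨F, hF, hr⟩ := (isPhCover_bind (PreZeroHypercover.singleton.{0} d) (isPhCover_singleton.{0} d)
    (fun _ => (coprodOpenCover.{u, 0} A B).toPreZeroHypercover) (fun _ => isPhCover_openCover _)).2 U
  refine ⟨F, hF, fun m => ?_⟩
  obtain ⟨⟨⟨⟩, j⟩, k, hk⟩ := hr m
  rcases j with j | j
  · exact ⟨false, k, (congrArg (k ≫ ·) (coprod.inl_desc a b)).symm.trans hk⟩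
  · exact ⟨true, k, (congrArg (k ≫ ·) (coprod.inr_desc a b)).symm.trans hk⟩

theorem phEq_of_cover (F : Sheaf (Jph S) (Type w)) {X : Over S} (E : PreZeroHypercover.{w'} X.left)
    (hE : IsPhCover E) {x y : F.obj.obj (op X)}
    (h : ∀ i, F.obj.map (Over.homMk (E.f i) : Over.mk (E.f i ≫ X.hom) ⟶ X).op x =
      F.obj.map (Over.homMk (E.f i) : Over.mk (E.f i ≫ X.hom) ⟶ X).op y) : x = y := by
  have hm : (Sieve.overEquiv X).symm (Sieve.generate E.presieve₀) ∈ Jph S X :=
    GrothendieckTopology.overEquiv_symm_mem_over _ _ _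
      (Precoverage.generate_mem_toGrothendieck ((presieve₀_mem_phPrecoverage_iff E).2 hE))
  refine (((isSheaf_iff_isSheaf_of_type _ _).1 F.property) _ hm).isSeparatedFor.ext fun Y₀ g hg => ?_
  rw [Sieve.overEquiv_symm_iff] at hg
  obtain ⟨Z, a, b, hb, hab⟩ := hg
  obtain ⟨i⟩ := hb
  have hg' : g = (Over.homMk a (by
      change a ≫ E.f i ≫ X.hom = Y₀.hom
      rw [reassoc_of% hab, Over.w g]) : Y₀ ⟶ Over.mk (E.f i ≫ X.hom)) ≫ Over.homMk (E.f i) := by
    ext1; exact hab.symm
  rw [hg', op_comp]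
  simp only [Functor.map_comp, types_comp_apply, h i]

/-- A ph sheaf is separated for two jointly surjective proper finitely presented morphisms. -/
theorem phEq_of_proper_pair (F : Sheaf (Jph S) (Type w)) {X A B : Over S} (a : A ⟶ X) (b : B ⟶ X)
    [IsProper a.left] [IsProper b.left]
    (hsurj : ∀ x : X.left, x ∈ Set.range a.left ∨ x ∈ Set.range b.left) {x y : F.obj.obj (op X)}
    (ha : F.obj.map a.op x = F.obj.map a.op y) (hb : F.obj.map b.op x = F.obj.map b.op y) :
    x = y := by
  let d := coprod.desc a.left b.left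
  have := isProper_coprodDesc a.left b.left
  have : IsProper d := this
  have : Surjective d := ⟨fun p => by
    rcases hsurj p with ⟨q, hq⟩ | ⟨q, hq⟩
    · exact ⟨(coprod.inl : A.left ⟶ A.left ⨿ B.left) q, by
        rw [← Scheme.Hom.comp_apply, coprod.inl_desc, hq]⟩
    · exact ⟨(coprod.inr : B.left ⟶ A.left ⨿ B.left) q, by
        rw [← Scheme.Hom.comp_apply, coprod.inr_desc, hq]⟩⟩
  refine phEq_of_cover F _ (isPhCover_singleton.{0} d) fun _ => ?_
  let D : Over.mk (d ≫ X.hom) ⟶ X := Over.homMk d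
  change F.obj.map D.op x = F.obj.map D.op y
  refine phEq_of_cover F _ (isPhCover_openCover (coprodOpenCover.{u, 0} A.left B.left)) fun i => ?_
  rcases i with i | i
  · let e : Over.mk (coprod.inl ≫ (Over.mk (d ≫ X.hom)).hom) ⟶ A :=
      Over.homMk (𝟙 A.left) (by
        change 𝟙 A.left ≫ A.hom = coprod.inl ≫ d ≫ X.hom
        rw [coprod.inl_desc_assoc, Over.w a, Category.id_comp])
    have h1 : (Over.homMk coprod.inl : Over.mk (coprod.inl ≫ (Over.mk (d ≫ X.hom)).hom) ⟶
        Over.mk (d ≫ X.hom)) ≫ D = e ≫ a := by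
      ext1
      change coprod.inl ≫ d = 𝟙 _ ≫ a.left
      rw [coprod.inl_desc, Category.id_comp]
    change (F.obj.map D.op ≫ F.obj.map (Over.homMk coprod.inl : Over.mk (coprod.inl ≫ (Over.mk (d ≫ X.hom)).hom) ⟶
        Over.mk (d ≫ X.hom)).op) x = (F.obj.map D.op ≫ F.obj.map (Over.homMk coprod.inl : Over.mk (coprod.inl ≫
        (Over.mk (d ≫ X.hom)).hom) ⟶ Over.mk (d ≫ X.hom)).op) y
    rw [← Functor.map_comp, ← op_comp, h1, op_comp, Functor.map_comp]
    simp only [types_comp_apply, ha]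
  · let e : Over.mk (coprod.inr ≫ (Over.mk (d ≫ X.hom)).hom) ⟶ B :=
      Over.homMk (𝟙 B.left) (by
        change 𝟙 B.left ≫ B.hom = coprod.inr ≫ d ≫ X.hom
        rw [coprod.inr_desc_assoc, Over.w b, Category.id_comp])
    have h1 : (Over.homMk coprod.inr : Over.mk (coprod.inr ≫ (Over.mk (d ≫ X.hom)).hom) ⟶
        Over.mk (d ≫ X.hom)) ≫ D = e ≫ b := by
      ext1
      change coprod.inr ≫ d = 𝟙 _ ≫ b.left
      rw [coprod.inr_desc, Category.id_comp]
    change (F.obj.map D.op ≫ F.obj.map (Over.homMk coprod.inr : Over.mk (coprod.inr ≫ (Over.mk (d ≫ X.hom)).hom) ⟶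
        Over.mk (d ≫ X.hom)).op) x = (F.obj.map D.op ≫ F.obj.map (Over.homMk coprod.inr : Over.mk (coprod.inr ≫
        (Over.mk (d ≫ X.hom)).hom) ⟶ Over.mk (d ≫ X.hom)).op) y
    rw [← Functor.map_comp, ← op_comp, h1, op_comp, Functor.map_comp]
    simp only [types_comp_apply, hb]

theorem phSections_cartesian (F : Sheaf (Jph S) (Type w)) {E Z X Y : Over S} (e : E ⟶ X) (π : E ⟶ Z)
    (f : X ⟶ Y) (i : Z ⟶ Y) [IsProper f.left]
    [IsClosedImmersion i.left]
    (hsq : IsPullback e.left π.left f.left i.left)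
    (U : Y.left.Opens) (hU : (U : Set Y.left) = (Set.range i.left)ᶜ) (hiso : IsIso (f.left ∣_ U))
    (t : F.obj.obj (op Z)) (s' : F.obj.obj (op X)) (hts : F.obj.map π.op t = F.obj.map e.op s') :
    ∃! s : F.obj.obj (op Y), F.obj.map i.op s = t ∧ F.obj.map f.op s = s' := by
  have hsurj : ∀ y : Y.left, y ∈ Set.range f.left ∨ y ∈ Set.range i.left := fun y => by
    by_cases hy : y ∈ Set.range i.left
    · exact Or.inr hy
    · left
      obtain ⟨x, hx⟩ := (f.left ∣_ U).homeomorph.surjective (⟨y, hU.ge hy⟩ : (U : Scheme.{u}))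
      exact ⟨(f.left ⁻¹ᵁ U).ι x, by
        rw [← Scheme.Hom.comp_apply, ← morphismRestrict_ι, Scheme.Hom.comp_apply]
        exact congrArg Subtype.val hx⟩
  have hcover : Sieve.generate (Presieve.ofArrows (fun j : Bool => (Bool.rec X Z j : Over S))
      (fun j => match j with | false => f | true => i)) ∈ Jph S Y := by
    show _ ∈ (phPrecoverage.{u}).toGrothendieck.over S Y
    rw [GrothendieckTopology.mem_over_iff, Sieve.overEquiv_generate]
    refine GrothendieckTopology.superset_covering _ (Sieve.generate_mono ?_)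
      (Precoverage.generate_mem_toGrothendieck ((presieve₀_mem_phPrecoverage_iff _).2 (isPhCover_pairFam f.left i.left hsurj)))
    rintro _ _ ⟨j⟩
    cases j
    · exact ⟨X, f, 𝟙 _, Presieve.ofArrows.mk false, (Category.id_comp _).symm⟩
    · exact ⟨Z, i, 𝟙 _, Presieve.ofArrows.mk true, (Category.id_comp _).symm⟩
  have hF : Presieve.IsSheafFor F.obj (Presieve.ofArrows (fun j : Bool => (Bool.rec X Z j : Over S))
      (fun j => match j with | false => f | true => i)) := by
    rw [Presieve.isSheafFor_iff_generate]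
    exact ((isSheaf_iff_isSheaf_of_type _ _).1 F.property) _ hcover
  have hcomm : e ≫ f = π ≫ i := by ext1; exact hsq.w
  have hcompat : ∀ {W : Over S} (p₁ p₂ : W ⟶ X), p₁ ≫ f = p₂ ≫ f →
      F.obj.map p₁.op s' = F.obj.map p₂.op s' := by
    intro W p₁ p₂ hp
    let P : Scheme.{u} := pullback f.left f.left
    let P' : Over S := Over.mk (pullback.fst f.left f.left ≫ X.hom)
    let q₁ : P' ⟶ X := Over.homMk (pullback.fst f.left f.left)
    let q₂ : P' ⟶ X := Over.homMk (pullback.snd f.left f.left) (by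
      change _ = pullback.fst f.left f.left ≫ X.hom
      rw [← Over.w f, ← reassoc_of% (pullback.condition (f := f.left) (g := f.left))])
    have hq : q₁ ≫ f = q₂ ≫ f := by ext1; exact pullback.condition
    suffices h : F.obj.map q₁.op s' = F.obj.map q₂.op s' by
      let l : W ⟶ P' := Over.homMk (pullback.lift p₁.left p₂.left (congrArg CommaMorphism.left hp))
        (by change _ ≫ pullback.fst f.left f.left ≫ X.hom = W.hom
            rw [pullback.lift_fst_assoc, Over.w p₁])
      have h1 : l ≫ q₁ = p₁ := by ext1; exact pullback.lift_fst _ _ _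
      have h2 : l ≫ q₂ = p₂ := by ext1; exact pullback.lift_snd _ _ _
      rw [← h1, ← h2, op_comp, op_comp]
      simp only [Functor.map_comp, types_comp_apply, h]
    let Δ : X ⟶ P' := Over.homMk (pullback.diagonal f.left) (by
      change pullback.diagonal f.left ≫ pullback.fst f.left f.left ≫ X.hom = X.hom
      simp)
    have : IsProper Δ.left := inferInstanceAs (IsProper (pullback.diagonal f.left))
    let G : Over S := Over.mk (pullback.fst (q₁.left ≫ f.left) i.left ≫ P'.hom)
    let g : G ⟶ P' := Over.homMk (pullback.fst (q₁.left ≫ f.left) i.left)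
    have : IsProper g.left := inferInstanceAs (IsProper (pullback.fst (q₁.left ≫ f.left) i.left))
    let z : G ⟶ Z := Over.homMk (pullback.snd (q₁.left ≫ f.left) i.left) (by
      change _ = pullback.fst (q₁.left ≫ f.left) i.left ≫ q₁.left ≫ X.hom
      rw [← Over.w i, ← reassoc_of% (pullback.condition (f := q₁.left ≫ f.left) (g := i.left)), Over.w f])
    have hz : g ≫ q₁ ≫ f = z ≫ i := by ext1; exact pullback.condition
    refine phEq_of_proper_pair F Δ g (fun p => ?_) ?_ ?_
    · by_cases hp : f.left (q₁.left p) ∈ Set.range i.left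
      · exact Or.inr ((Scheme.Pullback.range_fst (f := q₁.left ≫ f.left) (g := i.left)).ge hp)
      · left
        have hpU : f.left (q₁.left p) ∈ U := hU.ge hp
        let W₁ : (pullback f.left f.left).Opens := (q₁.left ≫ f.left) ⁻¹ᵁ U
        have hW : (W₁.ι ≫ pullback.fst f.left f.left) = W₁.ι ≫ pullback.snd f.left f.left := by
          let l₁ := IsOpenImmersion.lift (f.left ⁻¹ᵁ U).ι (W₁.ι ≫ pullback.fst f.left f.left) (by
            rw [Scheme.Opens.range_ι]; rintro _ ⟨x, rfl⟩; exact x.2)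
          let l₂ := IsOpenImmersion.lift (f.left ⁻¹ᵁ U).ι (W₁.ι ≫ pullback.snd f.left f.left) (by
            rw [Scheme.Opens.range_ι]; rintro _ ⟨x, rfl⟩
            change f.left (pullback.snd f.left f.left x.1) ∈ U
            rw [← Scheme.Hom.comp_apply, ← pullback.condition]
            exact x.2)
          have h12 : l₁ = l₂ := by
            rw [← cancel_mono (f.left ∣_ U), ← cancel_mono U.ι]
            simp only [Category.assoc, morphismRestrict_ι, l₁, l₂, IsOpenImmersion.lift_fac_assoc,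
              pullback.condition]
          exact (IsOpenImmersion.lift_fac _ _ _).symm.trans
            ((congrArg (· ≫ (f.left ⁻¹ᵁ U).ι) h12).trans (IsOpenImmersion.lift_fac _ _ _))
        refine ⟨pullback.fst f.left f.left p, ?_⟩
        have h3 : W₁.ι ≫ pullback.fst f.left f.left ≫ pullback.diagonal f.left = W₁.ι := by
          apply pullback.hom_ext
          · simp
          · simp [hW]
        exact congrArg (fun φ : (W₁ : Scheme.{u}) ⟶ pullback f.left f.left => φ ⟨p, hpU⟩) h3
    · have h1 : Δ ≫ q₁ = Δ ≫ q₂ := by ext1; simp [Δ, q₁, q₂]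
      change (F.obj.map q₁.op ≫ F.obj.map Δ.op) s' = (F.obj.map q₂.op ≫ F.obj.map Δ.op) s'
      rw [← Functor.map_comp, ← Functor.map_comp, ← op_comp, ← op_comp, h1]
    · have hk : ∀ q : P' ⟶ X, g ≫ q ≫ f = z ≫ i →
          F.obj.map g.op (F.obj.map q.op s') = F.obj.map z.op t := by
        intro q hq'
        let m : G ⟶ E := Over.homMk (hsq.lift (g ≫ q).left z.left (by
          exact congrArg CommaMorphism.left ((Category.assoc _ _ _).trans hq'))) (by
            rw [← Over.w e, hsq.lift_fst_assoc, Over.w (g ≫ q)])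
        have h1 : m ≫ e = g ≫ q := by ext1; exact hsq.lift_fst _ _ _
        have h2 : m ≫ π = z := by ext1; exact hsq.lift_snd _ _ _
        rw [← h2, op_comp, Functor.map_comp, types_comp_apply, hts]
        change (F.obj.map q.op ≫ F.obj.map g.op) s' = (F.obj.map e.op ≫ F.obj.map m.op) s'
        rw [← Functor.map_comp, ← Functor.map_comp, ← op_comp, ← op_comp, h1]
      rw [hk q₁ hz, hk q₂ (by rw [← hq]; exact hz)]
  have hmix : ∀ {W : Over S} (p : W ⟶ X) (q : W ⟶ Z), p ≫ f = q ≫ i →
      F.obj.map p.op s' = F.obj.map q.op t := by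
    intro W p q hpq
    let m : W ⟶ E := Over.homMk (hsq.lift p.left q.left (congrArg CommaMorphism.left hpq)) (by
      rw [← Over.w e, hsq.lift_fst_assoc, Over.w p])
    have h1 : m ≫ e = p := by ext1; exact hsq.lift_fst _ _ _
    have h2 : m ≫ π = q := by ext1; exact hsq.lift_snd _ _ _
    rw [← h1, ← h2, op_comp, op_comp, Functor.map_comp, Functor.map_comp, types_comp_apply, types_comp_apply, hts]
  have hmono : ∀ {W : Over S} (p q : W ⟶ Z), p ≫ i = q ≫ i → p = q := fun p q hpq => by
    ext1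
    exact (cancel_mono i.left).1 (congrArg CommaMorphism.left hpq)
  obtain ⟨s, hs, huniq⟩ := (Presieve.isSheafFor_arrows_iff _ _).1 hF
    (fun j => match j with | false => s' | true => t) (by
      intro a b W ga gb hab
      cases a <;> cases b
      · exact hcompat ga gb hab
      · exact hmix ga gb hab
      · exact (hmix gb ga hab.symm).symm
      · exact congrArg (fun z => F.obj.map z.op t) (hmono ga gb hab))
  refine ⟨s, ⟨hs true, hs false⟩, fun y hy => huniq y fun j => ?_⟩
  cases j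
  · exact hy.2
  · exact hy.1

theorem isFiniteTypeIdeal_ker {X Z : Scheme.{u}} (i : Z ⟶ X) [IsClosedImmersion i]
    [LocallyOfFinitePresentation i] : _root_.BlowUp.IsFiniteTypeIdeal i.ker := fun U => by
  rw [Scheme.Hom.ker_apply]
  have h : (i.app U.1).hom.FinitePresentation := by
    rw [Scheme.Hom.app_eq_appLE]
    exact Scheme.Hom.finitePresentation_appLE i U.2 (U.2.preimage i) le_rfl
  let _ := (i.app U.1).hom.toAlgebra
  have : Algebra.FinitePresentation Γ(X, U.1) Γ(Z, i ⁻¹ᵁ U.1) := h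
  exact Algebra.FinitePresentation.ker_fG_of_surjective (Algebra.ofId Γ(X, U.1) Γ(Z, i ⁻¹ᵁ U.1))
    (Scheme.Hom.app_surjective i U.1 U.2)

theorem phSections_cartesian_blowUp (F : Sheaf (Jph S) (Type w)) {E Z X Y : Over S} (e : E ⟶ X) (π : E ⟶ Z)
    (b : X ⟶ Y) (i : Z ⟶ Y) [IsClosedImmersion i.left] [LocallyOfFinitePresentation i.left]
    (hb : _root_.BlowUp.IsBlowUp b.left i.left.ker) (hE : IsPullback e.left π.left b.left i.left)
    (t : F.obj.obj (op Z)) (s' : F.obj.obj (op X)) (hts : F.obj.map π.op t = F.obj.map e.op s') :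
    ∃! s : F.obj.obj (op Y), F.obj.map i.op s = t ∧ F.obj.map b.op s = s' := by
  have := GrothLib.Nagata6.isProper_of_isBlowUp (isFiniteTypeIdeal_ker i.left) hb
  refine phSections_cartesian F e π b i hE i.left.ker.support.compl ?_ (GrothLib.BlowUp.isIso_off_center hb) t s' hts
  rw [TopologicalSpace.Closeds.coe_compl, Scheme.Hom.support_ker, i.left.isClosedEmbedding.isClosed_range.closure_eq]

end GrothLib.ABU25
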