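import Groth.Agent.Lib.ABU25.Basic
import Groth.Agent.Lib.HTop.Square

/-!
# h sheaves and almost blow-up squares
-/

set_option autoImplicit false

universe w w' u

open CategoryTheory CategoryTheory.Limits AlgebraicGeometry Opposite TopologicalSpace

namespace GrothLib.ABU25

open _root_.HTop GrothLib.HTop

variable {S : Scheme.{u}}

theorem isVCover_of_refines {T : Scheme.{u}} (E : PreZeroHypercover.{w} T) (E' : PreZeroHypercover.{w'} T)
    (h' : IsVCover E') (hr : ∀ j : E'.I₀, ∃ (i : E.I₀) (k : E'.X j ⟶ E.X i), k ≫ E.f i = E'.f j) :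
    IsVCover E := fun U => by
  obtain ⟨F, hF, hFr⟩ := h' U
  refine ⟨F, hF, fun m => ?_⟩
  obtain ⟨j, k, hk⟩ := hFr m
  obtain ⟨i, k', hk'⟩ := hr j
  exact ⟨i, k ≫ k', by rw [Category.assoc, hk', hk]⟩

/-- The family of a pair. -/
def pairFam {A B X : Scheme.{u}} (a : A ⟶ X) (b : B ⟶ X) : PreZeroHypercover.{0} X :=
  ⟨Bool, fun j => Bool.rec A B j, fun j => match j with | false => a | true => b⟩

theorem isHCover_pairFam {A B X : Scheme.{u}} (a : A ⟶ X) (b : B ⟶ X) [IsProper a] [IsProper b]
    [LocallyOfFinitePresentation a] [LocallyOfFinitePresentation b]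
    (hsurj : ∀ x : X, x ∈ Set.range a ∨ x ∈ Set.range b) : IsHCover (pairFam a b) := by
  let d := coprod.desc a b
  have : IsProper d := isProper_coprodDesc a b
  have : LocallyOfFinitePresentation d := lfp_coprodDesc _ _ inferInstance inferInstance
  have : Surjective d := ⟨fun p => by
    rcases hsurj p with ⟨q, hq⟩ | ⟨q, hq⟩
    · exact ⟨(coprod.inl : A ⟶ A ⨿ B) q, by rw [← Scheme.Hom.comp_apply, coprod.inl_desc, hq]⟩
    · exact ⟨(coprod.inr : B ⟶ A ⨿ B) q, by rw [← Scheme.Hom.comp_apply, coprod.inr_desc, hq]⟩⟩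
  refine ⟨fun j => by cases j <;> assumption, ?_⟩
  refine isVCover_of_refines _ _ (isVCover_bind (PreZeroHypercover.singleton.{0} d) (isHCover_singleton.{0} d).2
    (fun _ => (coprodOpenCover.{u, 0} A B).toPreZeroHypercover) (fun _ => (isHCover_openCover _).2)) ?_
  rintro ⟨⟨⟩, i | i⟩
  · exact ⟨false, 𝟙 A, (Category.id_comp a).trans (coprod.inl_desc a b).symm⟩
  · exact ⟨true, 𝟙 B, (Category.id_comp b).trans (coprod.inr_desc a b).symm⟩

theorem hSections_cartesian (F : Sheaf (Jh S) (Type w)) {E Z X Y : Over S} (e : E ⟶ X) (π : E ⟶ Z)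
    (f : X ⟶ Y) (i : Z ⟶ Y) [IsProper f.left] [LocallyOfFinitePresentation f.left]
    [IsClosedImmersion i.left] [LocallyOfFinitePresentation i.left]
    (hsq : IsPullback e.left π.left f.left i.left)
    (U : Y.left.Opens) (hU : (U : Set Y.left) = (Set.range i.left)ᶜ) (hiso : IsIso (f.left ∣_ U))
    (t : F.obj.obj (op Z)) (s' : F.obj.obj (op X)) (hts : F.obj.map π.op t = F.obj.map e.op s') :
    ∃! s : F.obj.obj (op Y), F.obj.map i.op s = t ∧ F.obj.map f.op s = s' := by
  have hsurj : ∀ y : Y.left, y ∈ Set.range f.left ∨ y ∈ Set.range i.left := fun y => by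
    by_cases hy : y ∈ Set.range i.left
    · exact Or.inr hy
    · left
      obtain ⟨x, hx⟩ := (f.left ∣_ U).homeomorph.surjective (⟨y, hU.ge hy⟩ : (U : Scheme.{u}))
      exact ⟨(f.left ⁻¹ᵁ U).ι x, by
        rw [← Scheme.Hom.comp_apply, ← morphismRestrict_ι, Scheme.Hom.comp_apply]
        exact congrArg Subtype.val hx⟩
  have hcover : Sieve.generate (Presieve.ofArrows (fun j : Bool => (Bool.rec X Z j : Over S))
      (fun j => match j with | false => f | true => i)) ∈ Jh S Y := by
    show _ ∈ (hPrecoverage.{u}).toGrothendieck.over S Y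
    rw [GrothendieckTopology.mem_over_iff, Sieve.overEquiv_generate]
    refine GrothendieckTopology.superset_covering _ (Sieve.generate_mono ?_)
      (Precoverage.generate_mem_toGrothendieck ((presieve₀_mem_hPrecoverage_iff _).2 (isHCover_pairFam f.left i.left hsurj)))
    rintro _ _ ⟨j⟩
    cases j
    · exact ⟨X, f, 𝟙 _, Presieve.ofArrows.mk false, (Category.id_comp _).symm⟩
    · exact ⟨Z, i, 𝟙 _, Presieve.ofArrows.mk true, (Category.id_comp _).symm⟩
  have hF : Presieve.IsSheafFor F.obj (Presieve.ofArrows (fun j : Bool => (Bool.rec X Z j : Over S))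
      (fun j => match j with | false => f | true => i)) := by
    rw [Presieve.isSheafFor_iff_generate]
    exact ((isSheaf_iff_isSheaf_of_type _ _).1 F.property) _ hcover
  have hcomm : e ≫ f = π ≫ i := by ext1; exact hsq.w
  have hcompat : ∀ {W : Over S} (p₁ p₂ : W ⟶ X), p₁ ≫ f = p₂ ≫ f →
      F.obj.map p₁.op s' = F.obj.map p₂.op s' := by
    intro W p₁ p₂ hp
    let P : Scheme.{u} := pullback f.left f.left
    let P' : Over S := Over.mk (pullback.fst f.left f.left ≫ X.hom)
    let q₁ : P' ⟶ X := Over.homMk (pullback.fst f.left f.left)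
    let q₂ : P' ⟶ X := Over.homMk (pullback.snd f.left f.left) (by
      change _ = pullback.fst f.left f.left ≫ X.hom
      rw [← Over.w f, ← reassoc_of% (pullback.condition (f := f.left) (g := f.left))])
    have hq : q₁ ≫ f = q₂ ≫ f := by ext1; exact pullback.condition
    suffices h : F.obj.map q₁.op s' = F.obj.map q₂.op s' by
      let l : W ⟶ P' := Over.homMk (pullback.lift p₁.left p₂.left (congrArg CommaMorphism.left hp))
        (by change _ ≫ pullback.fst f.left f.left ≫ X.hom = W.hom
            rw [pullback.lift_fst_assoc, Over.w p₁])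
      have h1 : l ≫ q₁ = p₁ := by ext1; exact pullback.lift_fst _ _ _
      have h2 : l ≫ q₂ = p₂ := by ext1; exact pullback.lift_snd _ _ _
      rw [← h1, ← h2, op_comp, op_comp]
      simp only [Functor.map_comp, types_comp_apply, h]
    let Δ : X ⟶ P' := Over.homMk (pullback.diagonal f.left) (by
      change pullback.diagonal f.left ≫ pullback.fst f.left f.left ≫ X.hom = X.hom
      simp)
    have : IsProper Δ.left := inferInstanceAs (IsProper (pullback.diagonal f.left))
    have : LocallyOfFinitePresentation Δ.left := DiagGrp.lfp_of_comp_of_lft (pullback.diagonal f.left)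
      (pullback.fst f.left f.left) (by rw [pullback.diagonal_fst]; infer_instance) inferInstance
    let G : Over S := Over.mk (pullback.fst (q₁.left ≫ f.left) i.left ≫ P'.hom)
    let g : G ⟶ P' := Over.homMk (pullback.fst (q₁.left ≫ f.left) i.left)
    have : IsProper g.left := inferInstanceAs (IsProper (pullback.fst (q₁.left ≫ f.left) i.left))
    have : LocallyOfFinitePresentation g.left :=
      inferInstanceAs (LocallyOfFinitePresentation (pullback.fst (q₁.left ≫ f.left) i.left))
    let z : G ⟶ Z := Over.homMk (pullback.snd (q₁.left ≫ f.left) i.left) (by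
      change _ = pullback.fst (q₁.left ≫ f.left) i.left ≫ q₁.left ≫ X.hom
      rw [← Over.w i, ← reassoc_of% (pullback.condition (f := q₁.left ≫ f.left) (g := i.left)), Over.w f])
    have hz : g ≫ q₁ ≫ f = z ≫ i := by ext1; exact pullback.condition
    refine GrothLib.HTop.hEq_of_proper_pair F Δ g (fun p => ?_) ?_ ?_
    · by_cases hp : f.left (q₁.left p) ∈ Set.range i.left
      · exact Or.inr ((Scheme.Pullback.range_fst (f := q₁.left ≫ f.left) (g := i.left)).ge hp)
      · left
        have hpU : f.left (q₁.left p) ∈ U := hU.ge hp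
        let W₁ : (pullback f.left f.left).Opens := (q₁.left ≫ f.left) ⁻¹ᵁ U
        have hW : (W₁.ι ≫ pullback.fst f.left f.left) = W₁.ι ≫ pullback.snd f.left f.left := by
          let l₁ := IsOpenImmersion.lift (f.left ⁻¹ᵁ U).ι (W₁.ι ≫ pullback.fst f.left f.left) (by
            rw [Scheme.Opens.range_ι]; rintro _ ⟨x, rfl⟩; exact x.2)
          let l₂ := IsOpenImmersion.lift (f.left ⁻¹ᵁ U).ι (W₁.ι ≫ pullback.snd f.left f.left) (by
            rw [Scheme.Opens.range_ι]; rintro _ ⟨x, rfl⟩
            change f.left (pullback.snd f.left f.left x.1) ∈ U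
            rw [← Scheme.Hom.comp_apply, ← pullback.condition]
            exact x.2)
          have h12 : l₁ = l₂ := by
            rw [← cancel_mono (f.left ∣_ U), ← cancel_mono U.ι]
            simp only [Category.assoc, morphismRestrict_ι, l₁, l₂, IsOpenImmersion.lift_fac_assoc,
              pullback.condition]
          exact (IsOpenImmersion.lift_fac _ _ _).symm.trans
            ((congrArg (· ≫ (f.left ⁻¹ᵁ U).ι) h12).trans (IsOpenImmersion.lift_fac _ _ _))
        refine ⟨pullback.fst f.left f.left p, ?_⟩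
        have h3 : W₁.ι ≫ pullback.fst f.left f.left ≫ pullback.diagonal f.left = W₁.ι := by
          apply pullback.hom_ext
          · simp
          · simp [hW]
        exact congrArg (fun φ : (W₁ : Scheme.{u}) ⟶ pullback f.left f.left => φ ⟨p, hpU⟩) h3
    · have h1 : Δ ≫ q₁ = Δ ≫ q₂ := by ext1; simp [Δ, q₁, q₂]
      change (F.obj.map q₁.op ≫ F.obj.map Δ.op) s' = (F.obj.map q₂.op ≫ F.obj.map Δ.op) s'
      rw [← Functor.map_comp, ← Functor.map_comp, ← op_comp, ← op_comp, h1]
    · have hk : ∀ q : P' ⟶ X, g ≫ q ≫ f = z ≫ i →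
          F.obj.map g.op (F.obj.map q.op s') = F.obj.map z.op t := by
        intro q hq'
        let m : G ⟶ E := Over.homMk (hsq.lift (g ≫ q).left z.left (by
          exact congrArg CommaMorphism.left ((Category.assoc _ _ _).trans hq'))) (by
            rw [← Over.w e, hsq.lift_fst_assoc, Over.w (g ≫ q)])
        have h1 : m ≫ e = g ≫ q := by ext1; exact hsq.lift_fst _ _ _
        have h2 : m ≫ π = z := by ext1; exact hsq.lift_snd _ _ _
        rw [← h2, op_comp, Functor.map_comp, types_comp_apply, hts]
        change (F.obj.map q.op ≫ F.obj.map g.op) s' = (F.obj.map e.op ≫ F.obj.map m.op) s'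
        rw [← Functor.map_comp, ← Functor.map_comp, ← op_comp, ← op_comp, h1]
      rw [hk q₁ hz, hk q₂ (by rw [← hq]; exact hz)]
  have hmix : ∀ {W : Over S} (p : W ⟶ X) (q : W ⟶ Z), p ≫ f = q ≫ i →
      F.obj.map p.op s' = F.obj.map q.op t := by
    intro W p q hpq
    let m : W ⟶ E := Over.homMk (hsq.lift p.left q.left (congrArg CommaMorphism.left hpq)) (by
      rw [← Over.w e, hsq.lift_fst_assoc, Over.w p])
    have h1 : m ≫ e = p := by ext1; exact hsq.lift_fst _ _ _
    have h2 : m ≫ π = q := by ext1; exact hsq.lift_snd _ _ _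
    rw [← h1, ← h2, op_comp, op_comp, Functor.map_comp, Functor.map_comp, types_comp_apply, types_comp_apply, hts]
  have hmono : ∀ {W : Over S} (p q : W ⟶ Z), p ≫ i = q ≫ i → p = q := fun p q hpq => by
    ext1
    exact (cancel_mono i.left).1 (congrArg CommaMorphism.left hpq)
  obtain ⟨s, hs, huniq⟩ := (Presieve.isSheafFor_arrows_iff _ _).1 hF
    (fun j => match j with | false => s' | true => t) (by
      intro a b W ga gb hab
      cases a <;> cases b
      · exact hcompat ga gb hab
      · exact hmix ga gb hab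
      · exact (hmix gb ga hab.symm).symm
      · exact congrArg (fun z => F.obj.map z.op t) (hmono ga gb hab))
  refine ⟨s, ⟨hs true, hs false⟩, fun y hy => huniq y fun j => ?_⟩
  cases j
  · exact hy.2
  · exact hy.1

end GrothLib.ABU25
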